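import Groth.Prelude.Def_Grpd
import Groth.Agent.S4717
import Groth.Agent.DimLift.Basic
import Mathlib.RingTheory.Spectrum.Prime.Chevalley
import Mathlib.RingTheory.Flat.TorsionFree
import Mathlib.FieldTheory.IsAlgClosed.AlgebraicClosure

/-!
# Groupoid schemes over a field: the dimension of the arrows is that of the stabilizer
-/

set_option autoImplicit false
set_option backward.isDefEq.respectTransparency false
set_option backward.isDefEq.respectTransparency.types false

universe u

open CategoryTheory CategoryTheory.Limits AlgebraicGeometry Order TopologicalSpace Polynomial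

namespace Groth.Agent.GrpdLib.FieldDim

/-- Two embeddings of a field into a finite type domain over the first: the second is algebraic over the first. -/
theorem isAlgebraic_of_hom {k D : Type u} [Field k] [CommRing D] [IsDomain D] [Algebra k D]
    [Algebra.FiniteType k D] (σ : k →+* D) (a : k) : IsAlgebraic k (σ a) := by
  classical
  let F0 : Subfield k := ⊥
  have hσ : σ.comp F0.subtype = (algebraMap k D).comp F0.subtype := by
    refine RingHom.ext fun x => IsFractionRing.injective D (FractionRing D) ?_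
    have h : F0 ≤ ((algebraMap D (FractionRing D)).comp σ).eqLocusField
      ((algebraMap D (FractionRing D)).comp (algebraMap k D)) := bot_le
    exact h x.2
  by_cases hF : IsAlgebraic F0 a
  · obtain ⟨q, hq0, hq⟩ := hF
    refine ⟨q.map F0.subtype, (Polynomial.map_ne_zero_iff F0.subtype.injective).2 hq0, ?_⟩
    rw [aeval_def, eval₂_map, ← hσ, ← hom_eval₂]
    rw [aeval_def] at hq
    exact (congrArg σ hq).trans (map_zero σ)
  by_contra htr
  algebraize [(Polynomial.aeval (R := k) (σ a)).toRingHom]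
  have : IsScalarTower k k[X] D := .of_algebraMap_eq fun c => (Polynomial.aeval (σ a)).commutes c |>.symm
  have hinj : Function.Injective (algebraMap k[X] D) :=
    transcendental_iff_injective.mp htr
  have : FaithfulSMul k[X] D := (faithfulSMul_iff_algebraMap_injective _ _).2 hinj
  have : Module.IsTorsionFree k[X] D := Module.isTorsionFree_iff_algebraMap_injective.mpr hinj
  have : Module.Flat k[X] D := Module.Flat.flat_iff_torsion_eq_bot_of_isBezout.2
    (Submodule.isTorsionFree_iff_torsion_eq_bot.1 this)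
  have : Algebra.FiniteType k[X] D := .of_restrictScalars_finiteType k k[X] D
  have : Algebra.FinitePresentation k[X] D := Algebra.FinitePresentation.of_finiteType.mp this
  have hop := PrimeSpectrum.isOpenMap_comap_of_hasGoingDown_of_finitePresentation (R := k[X]) (S := D)
  have hb : (⟨⊥, Ideal.isPrime_bot⟩ : PrimeSpectrum k[X]) ∈ Set.range (PrimeSpectrum.comap (algebraMap k[X] D)) :=
    ⟨⟨⊥, Ideal.isPrime_bot⟩, PrimeSpectrum.ext ((Ideal.comap_bot_of_injective _ hinj))⟩
  obtain ⟨_, ⟨g, rfl⟩, hg0, hg⟩ :=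
    PrimeSpectrum.isTopologicalBasis_basic_opens.exists_subset_of_mem_open hb hop.isOpen_range
  have hg0' : g ≠ 0 := fun h => hg0 (by simp [h])
  -- an element algebraic over the prime field avoiding the roots of `g`
  let Ω := AlgebraicClosure k
  let F0b := AlgebraicClosure F0
  let ι : F0b →ₐ[F0] Ω := IsAlgClosed.lift
  obtain ⟨c, hc⟩ : ∃ c : F0b, aeval (ι c) g ≠ 0 := by
    by_contra! hall
    have : (Set.range ι).Finite := (Polynomial.finite_setOf_isRoot
      ((Polynomial.map_ne_zero_iff (algebraMap k Ω).injective).2 hg0')).subset (by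
      rintro _ ⟨c, rfl⟩
      simpa [aeval_def, eval_map] using hall c)
    exact (Set.infinite_range_of_injective ι.injective) this
  let p : (↥F0)[X] := minpoly F0 c
  have hcI : IsIntegral F0 c := Algebra.IsIntegral.isIntegral c
  have hιI : IsIntegral k (ι c) := (hcI.map ι).tower_top
  have hdvd : minpoly k (ι c) ∣ p.map (algebraMap F0 k) := by
    refine minpoly.dvd k (ι c) ?_
    rw [aeval_map_algebraMap, aeval_algHom_apply, minpoly.aeval, map_zero]
  have hnd : ¬ minpoly k (ι c) ∣ g := fun ⟨r, hr⟩ => hc (by rw [hr, map_mul, minpoly.aeval, zero_mul])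
  let n : PrimeSpectrum k[X] :=
    ⟨Ideal.span {minpoly k (ι c)},
      (Ideal.span_singleton_prime (minpoly.ne_zero hιI)).2 (minpoly.prime hιI)⟩
  obtain ⟨m, hm⟩ := hg (show n ∈ (PrimeSpectrum.basicOpen g : Set _) from
    fun h => hnd (Ideal.mem_span_singleton.1 h))
  have hu : IsUnit (σ (aeval a p)) := by
    refine (Ne.isUnit ?_).map σ
    exact fun h => hF ⟨p, minpoly.ne_zero hcI, h⟩
  have heq : algebraMap k[X] D (p.map (algebraMap F0 k)) = σ (aeval a p) := by
    change aeval (σ a) (p.map F0.subtype) = σ (aeval a p)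
    rw [aeval_def, eval₂_map, ← hσ, aeval_def, hom_eval₂]
    rfl
  refine m.isPrime.ne_top (Ideal.eq_top_of_isUnit_mem _ ?_ hu)
  rw [← heq]
  change p.map (algebraMap F0 k) ∈ m.asIdeal.comap (algebraMap k[X] D)
  rw [show m.asIdeal.comap (algebraMap k[X] D) = n.asIdeal from congrArg PrimeSpectrum.asIdeal hm]
  exact Ideal.mem_span_singleton.2 hdvd

variable {S : Scheme.{u}} (G : Grpd.GroupoidScheme S) {k : Type u} [Field k]
  (eU : G.U ≅ Spec (CommRingCat.of k))

include eU in
theorem isSeparated_pU : IsSeparated G.pU := by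
  have : IsAffine G.U := .of_isIso eU.hom
  infer_instance

/-- `j = (t, s)` is constant along specializations. -/
theorem j_eq_of_specializes [LocallyOfFiniteType G.s] (eU : G.U ≅ Spec (CommRingCat.of k))
    {r r₀ : G.R} (h : r ⤳ r₀) : G.j r = G.j r₀ := by
  classical
  obtain ⟨_, ⟨V, hV, rfl⟩, hr₀, -⟩ :=
    G.R.isBasis_affineOpens.exists_subset_of_mem_open (Set.mem_univ r₀) isOpen_univ
  have hr : r ∈ V := h.mem_open V.2 hr₀
  let p := hV.primeIdealOf ⟨r, hr⟩
  let D := Γ(G.R, V) ⧸ p.asIdeal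
  let ψ : Spec (CommRingCat.of D) ⟶ G.R :=
    Spec.map (CommRingCat.ofHom (Ideal.Quotient.mk p.asIdeal)) ≫ hV.fromSpec
  have : IsClosedImmersion (Spec.map (CommRingCat.ofHom (Ideal.Quotient.mk p.asIdeal))) :=
    IsClosedImmersion.spec_of_surjective _ Ideal.Quotient.mk_surjective
  let σs : CommRingCat.of k ⟶ CommRingCat.of D := Spec.preimage (ψ ≫ G.s ≫ eU.hom)
  let σt : CommRingCat.of k ⟶ CommRingCat.of D := Spec.preimage (ψ ≫ G.t ≫ eU.hom)
  have hσs : Spec.map σs = ψ ≫ G.s ≫ eU.hom := Spec.map_preimage _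
  have hσt : Spec.map σt = ψ ≫ G.t ≫ eU.hom := Spec.map_preimage _
  algebraize [σs.hom]
  have : Algebra.FiniteType k D := by
    have : LocallyOfFiniteType (Spec.map σs) := by rw [hσs]; infer_instance
    exact (HasRingHomProperty.Spec_iff (P := @LocallyOfFiniteType)).1 this
  let E : Subalgebra k D := Algebra.adjoin k (Set.range σt.hom)
  have hint : E ≤ integralClosure k D := Algebra.adjoin_le (by
    rintro _ ⟨a, rfl⟩
    exact (isAlgebraic_of_hom σt.hom a).isIntegral)
  have : Algebra.IsIntegral k E := ⟨fun x => (isIntegral_algHom_iff E.val Subtype.val_injective).1 (hint x.2)⟩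
  let : Field E := (isField_of_isIntegral_of_isField' (Field.toIsField k) : IsField E).toField
  let σsE : CommRingCat.of k ⟶ CommRingCat.of E := CommRingCat.ofHom (algebraMap k E)
  let σtE : CommRingCat.of k ⟶ CommRingCat.of E :=
    CommRingCat.ofHom (σt.hom.codRestrict E fun a => Algebra.subset_adjoin ⟨a, rfl⟩)
  let π := Spec.map (CommRingCat.ofHom (E.val.toRingHom))
  have hs : π ≫ Spec.map σsE ≫ eU.inv = ψ ≫ G.s := by
    rw [← Spec.map_comp_assoc, show σsE ≫ CommRingCat.ofHom E.val.toRingHom = σs from rfl, hσs]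
    simp
  have ht : π ≫ Spec.map σtE ≫ eU.inv = ψ ≫ G.t := by
    rw [← Spec.map_comp_assoc, show σtE ≫ CommRingCat.ofHom E.val.toRingHom = σt from rfl, hσt]
    simp
  set_option synthInstance.maxHeartbeats 200000 in
  have hfl : Module.Flat E D := inferInstance
  have : Flat π := (HasRingHomProperty.Spec_iff (P := @Flat)).2 (by
    exact RingHom.flat_algebraMap_iff.mpr hfl)
  have : Surjective π := ⟨fun y => by
    obtain ⟨x⟩ : Nonempty ↥(Spec (CommRingCat.of D)) := (inferInstance : Nonempty (PrimeSpectrum D))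
    exact ⟨x, Subsingleton.elim (α := PrimeSpectrum E) _ _⟩⟩
  have : Epi π := Flat.epi_of_flat_of_surjective π
  let g : Spec (CommRingCat.of E) ⟶ pullback G.pU G.pU :=
    pullback.lift (Spec.map σtE ≫ eU.inv) (Spec.map σsE ≫ eU.inv) (by
      rw [← cancel_epi π, ← Category.assoc, ht, ← Category.assoc π (Spec.map σsE ≫ eU.inv), hs]
      simp [G.s_over, G.t_over])
  have hg : π ≫ g = ψ ≫ G.j := by
    apply pullback.hom_ext
    · simp only [g, Category.assoc, pullback.lift_fst, Grpd.GroupoidScheme.j]; exact ht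
    · simp only [g, Category.assoc, pullback.lift_snd, Grpd.GroupoidScheme.j]; exact hs
  have hmem : ∀ z : G.R, z ∈ V → r ⤳ z → ∃ y, ψ y = z := fun z hz hsp => by
    have hle : p.asIdeal ≤ (hV.primeIdealOf ⟨z, hz⟩).asIdeal := by
      refine (PrimeSpectrum.le_iff_specializes p _).2 ?_
      rw [← hV.fromSpec.isOpenEmbedding.isInducing.specializes_iff, hV.fromSpec_primeIdealOf, hV.fromSpec_primeIdealOf]
      exact hsp
    have : (hV.primeIdealOf ⟨z, hz⟩) ∈ Set.range (PrimeSpectrum.comap (Ideal.Quotient.mk p.asIdeal)) := by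
      rw [_root_.range_comap_of_surjective _ _ Ideal.Quotient.mk_surjective, Ideal.mk_ker]
      exact hle
    obtain ⟨y, hy⟩ := this
    exact ⟨y, (congrArg hV.fromSpec hy).trans (hV.fromSpec_primeIdealOf ⟨z, hz⟩)⟩
  obtain ⟨y, hy⟩ := hmem r hr specializes_rfl
  obtain ⟨y₀, hy₀⟩ := hmem r₀ hr₀ h
  rw [← hy, ← hy₀, ← Scheme.Hom.comp_apply, ← Scheme.Hom.comp_apply, ← hg]
  exact congrArg g (Subsingleton.elim (α := PrimeSpectrum E) _ _)

theorem j_diag_iff {T : Scheme.{u}} (h : T ⟶ G.R) :
    h ≫ G.j = (h ≫ G.s) ≫ G.diag ↔ h ≫ G.t = h ≫ G.s := by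
  constructor
  · intro e
    simpa [Grpd.GroupoidScheme.j, Grpd.GroupoidScheme.diag] using congrArg (· ≫ pullback.fst _ _) e
  · intro e
    apply pullback.hom_ext <;> simp [Grpd.GroupoidScheme.j, Grpd.GroupoidScheme.diag, e]

/-- Translation by `x`: the fibre of `j` through `x` is the stabilizer. -/
theorem exists_iso_translate {K : Scheme.{u}} (x : K ⟶ G.R) :
    Nonempty (pullback G.j (x ≫ G.j) ≅ pullback G.stabilizerToU (x ≫ G.s)) := by
  let A := pullback G.j (x ≫ G.j)
  let B := pullback G.stabilizerToU (x ≫ G.s)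
  let g : A ⟶ G.R := pullback.fst _ _
  let w : A ⟶ K := pullback.snd _ _
  have hgt : g ≫ G.t = w ≫ x ≫ G.t := by
    simpa [g, w, Grpd.GroupoidScheme.j] using
      congrArg (· ≫ pullback.fst _ _) (pullback.condition (f := G.j) (g := x ≫ G.j))
  have hgs : g ≫ G.s = w ≫ x ≫ G.s := by
    simpa [g, w, Grpd.GroupoidScheme.j] using
      congrArg (· ≫ pullback.snd _ _) (pullback.condition (f := G.j) (g := x ≫ G.j))
  let h : B ⟶ G.R := pullback.fst _ _ ≫ pullback.fst G.j G.diag
  let v : B ⟶ K := pullback.snd _ _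
  have hhj : h ≫ G.j = (v ≫ x ≫ G.s) ≫ G.diag := by
    dsimp only [h, v]
    rw [Category.assoc, pullback.condition (f := G.j), ← Category.assoc,
      ← pullback.condition (f := G.stabilizerToU)]
    rfl
  have hhs : h ≫ G.s = v ≫ x ≫ G.s := by
    simpa [Grpd.GroupoidScheme.j, Grpd.GroupoidScheme.diag] using congrArg (· ≫ pullback.snd _ _) hhj
  have hht : h ≫ G.t = v ≫ x ≫ G.s := by
    simpa [Grpd.GroupoidScheme.j, Grpd.GroupoidScheme.diag] using congrArg (· ≫ pullback.fst _ _) hhj
  -- forward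
  have c1 : (w ≫ x ≫ G.i) ≫ G.s = g ≫ G.t := by
    rw [hgt]; simp [G.i_s]
  let g' : A ⟶ G.R := pullback.lift (w ≫ x ≫ G.i) g c1 ≫ G.c
  have g't : g' ≫ G.t = w ≫ x ≫ G.s := by
    rw [G.comp_t]; simp [G.i_t]
  have g's : g' ≫ G.s = w ≫ x ≫ G.s := by rw [G.comp_s, hgs]
  have hg' : g' ≫ G.j = (g' ≫ G.s) ≫ G.diag := (j_diag_iff G g').2 (g't.trans g's.symm)
  let F : A ⟶ B := pullback.lift (pullback.lift g' (g' ≫ G.s) hg') w (by
    change pullback.lift g' _ hg' ≫ pullback.snd G.j G.diag = _
    rw [pullback.lift_snd, g's])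
  -- backward
  have c2 : (v ≫ x) ≫ G.s = h ≫ G.t := by rw [hht, Category.assoc]
  let h' : B ⟶ G.R := pullback.lift (v ≫ x) h c2 ≫ G.c
  have h't : h' ≫ G.t = v ≫ x ≫ G.t := by rw [G.comp_t, Category.assoc]
  have h's : h' ≫ G.s = v ≫ x ≫ G.s := by rw [G.comp_s, hhs]
  let H : B ⟶ A := pullback.lift h' v (by
    apply pullback.hom_ext <;> simp [Grpd.GroupoidScheme.j, h't, h's])
  have Fh : F ≫ h = g' := by
    dsimp only [h, F]
    rw [pullback.lift_fst_assoc]
    exact pullback.lift_fst _ _ _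
  have Fv : F ≫ v = w := pullback.lift_snd _ _ _
  have Hg : H ≫ g = h' := pullback.lift_fst _ _ _
  have Hw : H ≫ w = v := pullback.lift_snd _ _ _
  have pre : ∀ {T T' : Scheme.{u}} (f : T' ⟶ T) (a b : T ⟶ G.R) (e : a ≫ G.s = b ≫ G.t)
      (a' b' : T' ⟶ G.R) (e' : a' ≫ G.s = b' ≫ G.t), f ≫ a = a' → f ≫ b = b' →
      f ≫ pullback.lift a b e ≫ G.c = pullback.lift a' b' e' ≫ G.c := by
    intro T T' f a b e a' b' e' ha hb
    rw [← Category.assoc]
    congr 1
    apply pullback.hom_ext <;> simp [ha, hb]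
  have ee : ∀ {T : Scheme.{u}} (a b : T ⟶ G.R) (e : a ≫ G.s = b ≫ G.t), a = b ≫ G.t ≫ G.e →
      pullback.lift a b e ≫ G.c = b := fun a b e h1 => by
    subst h1; exact G.e_comp b
  refine ⟨⟨F, H, ?_, ?_⟩⟩
  · apply pullback.hom_ext
    · change (F ≫ H) ≫ g = 𝟙 _ ≫ g
      rw [Category.id_comp, Category.assoc, Hg]
      have ab : (w ≫ x) ≫ G.s = (w ≫ x ≫ G.i) ≫ G.t := by simp [G.i_t]
      rw [pre F _ _ c2 (w ≫ x) g' (by rw [g't, Category.assoc]) (by rw [← Category.assoc, Fv]) Fh]
      refine (G.assoc (w ≫ x) (w ≫ x ≫ G.i) g ab c1).symm.trans (ee _ _ _ ?_)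
      rw [show pullback.lift (w ≫ x) (w ≫ x ≫ G.i) ab ≫ G.c = (w ≫ x) ≫ G.t ≫ G.e by
        simpa only [Category.assoc] using G.comp_i (w ≫ x)]
      simp [reassoc_of% hgt]
    · change (F ≫ H) ≫ w = 𝟙 _ ≫ w
      rw [Category.id_comp, Category.assoc, Hw, Fv]
  · apply pullback.hom_ext
    · apply pullback.hom_ext
      · change (H ≫ F) ≫ h = 𝟙 _ ≫ h
        rw [Category.id_comp, Category.assoc, Fh]
        rw [pre H _ _ c1 (v ≫ x ≫ G.i) h' (by rw [h't]; simp [G.i_s]) (by rw [← Category.assoc, Hw]) Hg]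
        have ab : (v ≫ x ≫ G.i) ≫ G.s = (v ≫ x) ≫ G.t := by simp [G.i_s]
        refine (G.assoc (v ≫ x ≫ G.i) (v ≫ x) h ab c2).symm.trans (ee _ _ _ ?_)
        rw [show pullback.lift (v ≫ x ≫ G.i) (v ≫ x) ab ≫ G.c = (v ≫ x) ≫ G.s ≫ G.e by
          simpa only [Category.assoc] using G.i_comp (v ≫ x)]
        simp [reassoc_of% hht]
      · simp only [Category.assoc]
        change H ≫ F ≫ pullback.fst _ _ ≫ G.stabilizerToU = 𝟙 _ ≫ pullback.fst _ _ ≫ G.stabilizerToU
        rw [Category.id_comp, pullback.condition (f := G.stabilizerToU)]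
        change H ≫ F ≫ v ≫ x ≫ G.s = v ≫ x ≫ G.s
        rw [reassoc_of% Fv, reassoc_of% Hw]
    · change (H ≫ F) ≫ v = 𝟙 _ ≫ v
      rw [Category.id_comp, Category.assoc, Fv, Hw]

attribute [local instance] specializationOrder

include eU in
theorem dim_fibre [LocallyOfFiniteType G.s] (r₀ : G.R) (hr₀ : IsClosed ({r₀} : Set G.R)) :
    IsClosed (G.j ⁻¹' {G.j r₀}) ∧
      topologicalKrullDim ↥(G.j ⁻¹' {G.j r₀}) = topologicalKrullDim G.stabilizer := by
  have : IsAffine G.U := .of_isIso eU.hom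
  have := isSeparated_pU G eU
  have : IsClosedImmersion (G.R.fromSpecResidueField r₀) :=
    .of_isPreimmersion _ (by rw [Scheme.range_fromSpecResidueField]; exact hr₀)
  let x := G.R.fromSpecResidueField r₀
  have : LocallyOfFiniteType (x ≫ G.s ≫ eU.hom) := inferInstance
  have hfin : IsFinite (x ≫ G.s ≫ eU.hom) :=
    isFinite_iff_locallyOfFiniteType_of_jacobsonSpace.mpr inferInstance
  have hxs : IsFinite (x ≫ G.s) := (MorphismProperty.cancel_right_of_respectsIso @IsFinite _ eU.hom).1
    (by rw [Category.assoc]; exact hfin)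
  have : IsFinite (x ≫ G.j) := by
    have : IsFinite ((x ≫ G.j) ≫ pullback.snd G.pU G.pU) := by
      simpa [Grpd.GroupoidScheme.j] using hxs
    exact IsFinite.of_comp (x ≫ G.j) (pullback.snd G.pU G.pU)
  have : Subsingleton ↥G.U := eU.hom.homeomorph.injective.subsingleton
  have : Surjective (x ≫ G.s) := ⟨fun y => ⟨IsLocalRing.closedPoint _, Subsingleton.elim _ _⟩⟩
  have : IsLocallyNoetherian (Spec (CommRingCat.of k)) := inferInstance
  have : IsLocallyNoetherian G.U := LocallyOfFiniteType.isLocallyNoetherian eU.hom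
  have : IsLocallyNoetherian G.R := LocallyOfFiniteType.isLocallyNoetherian G.s
  have : IsClosedImmersion (G.diag ≫ pullback.fst G.pU G.pU) := by
    rw [Grpd.GroupoidScheme.diag, pullback.lift_fst]; infer_instance
  have : IsClosedImmersion G.diag := .of_comp G.diag (pullback.fst G.pU G.pU)
  have : IsLocallyNoetherian G.stabilizer :=
    LocallyOfFiniteType.isLocallyNoetherian (pullback.fst G.j G.diag)
  have hA : IsLocallyNoetherian (pullback G.j (x ≫ G.j)) :=
    LocallyOfFiniteType.isLocallyNoetherian (pullback.fst G.j (x ≫ G.j))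
  have hB : IsLocallyNoetherian (pullback G.stabilizerToU (x ≫ G.s)) :=
    LocallyOfFiniteType.isLocallyNoetherian (pullback.fst G.stabilizerToU (x ≫ G.s))
  have hrg : Set.range (pullback.fst G.j (x ≫ G.j)) = G.j ⁻¹' {G.j r₀} := by
    rw [Scheme.Pullback.range_fst]
    congr 1
    ext z
    constructor
    · rintro ⟨w, rfl⟩
      simp [Scheme.Hom.comp_apply, x, Scheme.fromSpecResidueField_apply]
    · rintro rfl
      exact ⟨IsLocalRing.closedPoint _,
        by simp [Scheme.Hom.comp_apply, x, Scheme.fromSpecResidueField_apply]⟩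
  obtain ⟨e⟩ := exists_iso_translate G x
  refine ⟨hrg ▸ (pullback.fst G.j (x ≫ G.j)).isClosedMap.isClosed_range, ?_⟩
  rw [← hrg, ← (S4717.result (pullback.fst G.j (x ≫ G.j))).1,
    IsHomeomorph.topologicalKrullDim_eq _ e.hom.homeomorph.isHomeomorph,
    (S4717.result (pullback.fst G.stabilizerToU (x ≫ G.s))).2 (Scheme.Hom.surjective _)]

include eU in
/-- The dimension of the arrows of a groupoid over a field is that of the stabilizer. -/
theorem dim_eq [LocallyOfFiniteType G.s] :
    topologicalKrullDim G.R = topologicalKrullDim G.stabilizer := by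
  have : IsAffine G.U := .of_isIso eU.hom
  have := isSeparated_pU G eU
  have : JacobsonSpace G.R := LocallyOfFiniteType.jacobsonSpace (G.s ≫ eU.hom)
  apply le_antisymm
  · rw [DimLift.topologicalKrullDim_eq_points]
    refine iSup_le fun p => ?_
    obtain ⟨r₀, hr, hc⟩ := nonempty_inter_closedPoints (X := G.R) (Z := closure {p.head})
      ⟨p.head, subset_closure rfl⟩ isClosed_closure.isLocallyClosed
    have hall : ∀ i, p i ∈ G.j ⁻¹' {G.j r₀} := fun i => by
      have h0 : p i ⤳ p.head := (p.head_le i : _)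
      exact j_eq_of_specializes G eU (h0.trans (specializes_iff_mem_closure.mpr hr))
    obtain ⟨hcl, hdim⟩ := dim_fibre G eU r₀ hc
    rw [← hdim]
    have : QuasiSober ↥(G.j ⁻¹' {G.j r₀}) := hcl.isClosedEmbedding_subtypeVal.quasiSober
    rw [DimLift.topologicalKrullDim_eq_points]
    refine le_iSup_of_le ⟨p.length, fun i => ⟨p i, hall i⟩, fun i => ?_⟩ le_rfl
    have hlt : p i.castSucc < p i.succ := p.step i
    obtain ⟨h1, h2⟩ := lt_iff_le_not_ge.1 hlt
    exact lt_iff_le_not_ge.2 ⟨(subtype_specializes_iff _ _).2 h1, fun h => h2 ((subtype_specializes_iff _ _).1 h)⟩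
  · have : IsClosedImmersion (G.diag ≫ pullback.fst G.pU G.pU) := by
      rw [Grpd.GroupoidScheme.diag, pullback.lift_fst]; infer_instance
    have : IsClosedImmersion G.diag := .of_comp G.diag (pullback.fst G.pU G.pU)
    exact (pullback.fst G.j G.diag).isClosedEmbedding.isInducing.topologicalKrullDim_le

end Groth.Agent.GrpdLib.FieldDim
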