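import Groth.Agent.GrpdLib.StabTorsor
import Groth.Agent.S2155
import Groth.Agent.GrpdLib.DegDecomp
import Mathlib.AlgebraicGeometry.Morphisms.Smooth

/-!
# Smoothness of a groupoid on a field from one point of smoothness
-/

set_option backward.isDefEq.respectTransparency false
set_option backward.isDefEq.respectTransparency.types false
set_option linter.style.haveILetI false

universe u

open CategoryTheory CategoryTheory.Limits AlgebraicGeometry TopologicalSpace Grpd

namespace Groth.Agent.GrpdLib

variable {S : Scheme.{u}} (G : GroupoidScheme S) [LocallyOfFinitePresentation G.t] [Flat G.t] [Subsingleton G.U]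

theorem smooth_t_of_nonempty_smoothLocus (h : (G.t.smoothLocus : Set G.R).Nonempty) : Smooth G.t := by
  rw [← Scheme.Hom.smoothLocus_eq_top_iff, eq_top_iff]
  rintro r -
  obtain ⟨w, hw⟩ := h
  let sq := isPullback_snd_c G
  obtain ⟨q, hq₁, hq₂⟩ := Scheme.Pullback.exists_preimage_pullback (f := G.s) (g := G.s) w r (Subsingleton.elim _ _)
  let p := sq.isoPullback.inv q
  have hp₁ : pullback.snd G.s G.t p = w := by
    rw [← hq₁, ← Scheme.Hom.comp_apply, sq.isoPullback_inv_fst]
  have hp₂ : G.c p = r := by
    rw [← hq₂, ← Scheme.Hom.comp_apply, sq.isoPullback_inv_snd]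
  haveI : LocallyOfFinitePresentation (pullback.fst G.s G.t) := inferInstance
  have e₁ := Groth.Agent.S2155.result G.t G.s (pullback.fst G.s G.t) (pullback.snd G.s G.t)
    (IsPullback.of_hasPullback G.s G.t).flip (Or.inl inferInstance)
  have e₂ := Groth.Agent.S2155.result G.t G.t (pullback.fst G.s G.t) G.c
    (isPullback_fst_c G).flip (Or.inl inferInstance)
  have hp : p ∈ (pullback.fst G.s G.t).smoothLocus := e₁.ge (show pullback.snd G.s G.t p ∈ _ by rwa [hp₁])
  have := e₂.le hp
  rwa [Scheme.Hom.mem_preimage, hp₂] at this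

omit [LocallyOfFinitePresentation G.t] [Flat G.t] [Subsingleton G.U] in
theorem smooth_s_of_smooth_t [Smooth G.t] : Smooth G.s := by
  haveI : IsIso G.i := ⟨G.i, i_i G, i_i G⟩
  rw [← G.i_t]
  infer_instance

end Groth.Agent.GrpdLib
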