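import Groth.Agent.GrpdLib.HomField

/-!
# Locally closed images of morphisms of groupoids over a field are closed
-/

set_option autoImplicit false
set_option backward.isDefEq.respectTransparency false
set_option backward.isDefEq.respectTransparency.types false

universe u

open CategoryTheory CategoryTheory.Limits AlgebraicGeometry Grpd

namespace Groth.Agent.GrpdLib

variable {S : Scheme.{u}} {G₁ G₂ : GroupoidScheme S} {k : Type u} [Field k]

/-- If `y` and `x ∘ y` lie in the image, so does `x`. -/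
theorem mem_range_of_comp (a : GroupoidScheme.Hom G₁ G₂) [IsIso a.fU] {K : Type u} [Field K]
    (x y : Spec (CommRingCat.of K) ⟶ G₂.R) (h : x ≫ G₂.s = y ≫ G₂.t)
    (hy : y (IsLocalRing.closedPoint K) ∈ Set.range ⇑a.fR)
    (hxy : (pullback.lift x y h ≫ G₂.c) (IsLocalRing.closedPoint K) ∈ Set.range ⇑a.fR) :
    x (IsLocalRing.closedPoint K) ∈ Set.range ⇑a.fR := by
  obtain ⟨L₁, _, g₁, ω₁, hω₁⟩ := exists_field_lift a.fR K y hy
  let χ := pullback.lift x y h ≫ G₂.c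
  have hχ' : (g₁ ≫ χ) (IsLocalRing.closedPoint L₁) ∈ Set.range ⇑a.fR := by
    rw [Scheme.Hom.comp_apply, Subsingleton.elim (g₁ (IsLocalRing.closedPoint L₁)) (IsLocalRing.closedPoint K)]
    exact hxy
  obtain ⟨L, _, g₂, χ₁, hχ₁⟩ := exists_field_lift a.fR L₁ (g₁ ≫ χ) hχ'
  let ω₂ := g₂ ≫ ω₁
  have hω₂ : ω₂ ≫ a.fR = (g₂ ≫ g₁) ≫ y := by simp only [ω₂, Category.assoc, hω₁]
  have hχ₂ : χ₁ ≫ a.fR = (g₂ ≫ g₁) ≫ χ := by simp only [hχ₁, Category.assoc]
  have hs₂ : χ ≫ G₂.s = y ≫ G₂.s := G₂.comp_s x y h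
  have hs : χ₁ ≫ G₁.s = (ω₂ ≫ G₁.i) ≫ G₁.t := by
    rw [Category.assoc, G₁.i_t, ← cancel_mono a.fU, Category.assoc, ← a.comm_s, reassoc_of% hχ₂,
      Category.assoc ω₂ G₁.s, ← a.comm_s, reassoc_of% hω₂, hs₂]
  let γ := pullback.lift χ₁ (ω₂ ≫ G₁.i) hs ≫ G₁.c
  have hγ : γ ≫ a.fR = (g₂ ≫ g₁) ≫ x := by
    have hγs : γ ≫ G₁.s = ω₂ ≫ G₁.t := by
      simp only [γ]; rw [G₁.comp_s, Category.assoc, G₁.i_s]
    have hcc := a.comm_c γ ω₂ hγs
    have e1 : pullback.lift γ ω₂ hγs ≫ G₁.c = χ₁ := by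
      refine (G₁.assoc χ₁ (ω₂ ≫ G₁.i) ω₂ hs (by rw [Category.assoc, G₁.i_s])).trans ?_
      refine (c_congr G₁ _ rfl (G₁.i_comp ω₂)).trans ((c_congr G₁ _ rfl ?_).trans (G₁.comp_e χ₁))
      rw [← Category.assoc χ₁, hs]; simp only [Category.assoc, reassoc_of% G₁.i_t]
    rw [e1, hχ₂] at hcc
    have hcomp : (g₂ ≫ g₁) ≫ χ = pullback.lift ((g₂ ≫ g₁) ≫ x) ((g₂ ≫ g₁) ≫ y)
        (by simp only [Category.assoc, h]) ≫ G₂.c := by
      rw [show χ = pullback.lift x y h ≫ G₂.c from rfl, ← Category.assoc]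
      congr 1
      apply pullback.hom_ext <;> simp
    rw [hcomp] at hcc
    have h' := (isPullback_snd_c G₂).hom_ext
      (k := pullback.lift ((g₂ ≫ g₁) ≫ x) ((g₂ ≫ g₁) ≫ y) (by simp only [Category.assoc, h]))
      (l := pullback.lift (γ ≫ a.fR) (ω₂ ≫ a.fR) (by
        rw [Category.assoc γ, a.comm_s, Category.assoc ω₂ a.fR, a.comm_t, ← Category.assoc γ,
          ← Category.assoc ω₂]
        congr 1))
      (by simp [hω₂]) hcc
    have := congrArg (· ≫ pullback.fst G₂.s G₂.t) h'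
    simpa using this.symm
  refine ⟨γ (IsLocalRing.closedPoint L), ?_⟩
  rw [← Scheme.Hom.comp_apply, hγ]
  simp only [Scheme.Hom.comp_apply]
  exact congrArg _ (Subsingleton.elim _ _)

theorem mem_range_e (a : GroupoidScheme.Hom G₁ G₂) [IsIso a.fU] (u : G₂.U) : G₂.e u ∈ Set.range ⇑a.fR := by
  refine ⟨G₁.e (inv a.fU u), ?_⟩
  rw [← Scheme.Hom.comp_apply G₁.e, hom_comm_e, ← Scheme.Hom.comp_apply, IsIso.inv_hom_id_assoc]

theorem mem_range_i (a : GroupoidScheme.Hom G₁ G₂) [IsIso a.fU] {K : Type u} [Field K]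
    (y : Spec (CommRingCat.of K) ⟶ G₂.R) (hy : y (IsLocalRing.closedPoint K) ∈ Set.range ⇑a.fR) :
    (y ≫ G₂.i) (IsLocalRing.closedPoint K) ∈ Set.range ⇑a.fR := by
  refine mem_range_of_comp a (y ≫ G₂.i) y (by rw [Category.assoc, G₂.i_s]) hy ?_
  rw [G₂.i_comp]
  simp only [Scheme.Hom.comp_apply]
  exact mem_range_e a _

theorem c_mem_range (a : GroupoidScheme.Hom G₁ G₂) [IsIso a.fU] (ξ : ↥(pullback G₂.s G₂.t))
    (h1 : pullback.fst G₂.s G₂.t ξ ∈ Set.range ⇑a.fR) (h2 : pullback.snd G₂.s G₂.t ξ ∈ Set.range ⇑a.fR) :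
    G₂.c ξ ∈ Set.range ⇑a.fR := by
  let K := (pullback G₂.s G₂.t).residueField ξ
  let ζ := (pullback G₂.s G₂.t).fromSpecResidueField ξ
  have hζ : ζ (IsLocalRing.closedPoint K) = ξ := Scheme.fromSpecResidueField_apply _ _
  let x := ζ ≫ pullback.fst G₂.s G₂.t
  let y := ζ ≫ pullback.snd G₂.s G₂.t
  have hxy : x ≫ G₂.s = y ≫ G₂.t := by simp only [x, y, Category.assoc, pullback.condition]
  have e : pullback.lift x y hxy = ζ := by apply pullback.hom_ext <;> simp [x, y]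
  let χ := pullback.lift x y hxy ≫ G₂.c
  have hχ : χ (IsLocalRing.closedPoint K) = G₂.c ξ := by
    simp only [χ, e, Scheme.Hom.comp_apply, hζ]
  have hs : χ ≫ G₂.s = (y ≫ G₂.i) ≫ G₂.t := by
    rw [G₂.comp_s, Category.assoc y G₂.i, G₂.i_t]
  rw [← hχ]
  refine mem_range_of_comp a χ (y ≫ G₂.i) hs (mem_range_i a y ?_) ?_
  · show y (IsLocalRing.closedPoint K) ∈ _
    simp only [y, Scheme.Hom.comp_apply, hζ]
    exact h2
  · have e2 : pullback.lift χ (y ≫ G₂.i) hs ≫ G₂.c = x := by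
      refine (G₂.assoc x y (y ≫ G₂.i) hxy (by rw [Category.assoc y G₂.i, G₂.i_t])).trans ?_
      refine (c_congr G₂ _ rfl (G₂.comp_i y)).trans ((c_congr G₂ _ rfl ?_).trans (G₂.comp_e x))
      rw [← Category.assoc x, hxy, Category.assoc y]
    rw [e2]
    simp only [x, Scheme.Hom.comp_apply]
    convert h1
    exact hζ

theorem isOpenMap_snd_of_field (G : GroupoidScheme S) (eU : G.U ≅ Spec (CommRingCat.of k))
    {Z : Scheme.{u}} (f : Z ⟶ G.U) : UniversallyOpen f := by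
  have : Nonempty G.U := ⟨eU.inv (IsLocalRing.closedPoint k)⟩
  have : IsIntegral G.U := isIntegral_of_isOpenImmersion eU.hom
  have : Subsingleton G.U := eU.hom.homeomorph.subsingleton
  infer_instance

/-- Over a field, pairs in the closure are composed into the closure. -/
theorem c_mem_closure (eU : G₂.U ≅ Spec (CommRingCat.of k)) (a : GroupoidScheme.Hom G₁ G₂) [IsIso a.fU]
    (ξ : ↥(pullback G₂.s G₂.t))
    (h1 : pullback.fst G₂.s G₂.t ξ ∈ closure (Set.range ⇑a.fR))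
    (h2 : pullback.snd G₂.s G₂.t ξ ∈ closure (Set.range ⇑a.fR)) :
    G₂.c ξ ∈ closure (Set.range ⇑a.fR) := by
  rw [mem_closure_iff] at h1 h2 ⊢
  intro V hV hξ
  let z₁ := pullback.fst G₂.s G₂.t ξ
  let ρ := G₂.R.fromSpecResidueField z₁
  -- the fibre of the first projection through `ξ`
  let M : pullback (ρ ≫ G₂.s) G₂.t ⟶ pullback G₂.s G₂.t :=
    pullback.map _ _ _ _ ρ (𝟙 _) (𝟙 _) (by simp) (by simp)
  have hMs : M ≫ pullback.snd G₂.s G₂.t = pullback.snd (ρ ≫ G₂.s) G₂.t := by simp [M]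
  have hMf : M ≫ pullback.fst G₂.s G₂.t = pullback.fst (ρ ≫ G₂.s) G₂.t ≫ ρ := by simp [M]
  have : UniversallyOpen (ρ ≫ G₂.s) := isOpenMap_snd_of_field G₂ eU _
  have ho : IsOpenMap ⇑(pullback.snd (ρ ≫ G₂.s) G₂.t) := Scheme.Hom.isOpenMap _
  obtain ⟨η, hη⟩ : ∃ η, M η = ξ := by
    have sq : IsPullback M (pullback.fst (ρ ≫ G₂.s) G₂.t) (pullback.fst G₂.s G₂.t) ρ := by
      refine (IsPullback.of_right ?_ hMf (IsPullback.of_hasPullback G₂.s G₂.t).flip).flip.flip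
      rw [hMs]
      exact (IsPullback.of_hasPullback (ρ ≫ G₂.s) G₂.t).flip
    obtain ⟨η, hη, -⟩ := Scheme.Pullback.exists_preimage_pullback (f := pullback.fst G₂.s G₂.t) (g := ρ) ξ
      (IsLocalRing.closedPoint _) (Scheme.fromSpecResidueField_apply _ _).symm
    exact ⟨sq.isoPullback.inv η, by rw [← Scheme.Hom.comp_apply, sq.isoPullback_inv_fst, hη]⟩
  obtain ⟨w₂, hw₂, hw₂W⟩ := h2 _ (ho _ (hV.preimage (M ≫ G₂.c).continuous))
    ⟨η, (by simpa [Scheme.Hom.comp_apply, hη] using hξ), by rw [← hMs, Scheme.Hom.comp_apply, hη]⟩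
  obtain ⟨η', hη', rfl⟩ := hw₂
  -- the fibre of the second projection through the new point
  let ξ' := M η'
  let ρ' := G₂.R.fromSpecResidueField (pullback.snd G₂.s G₂.t ξ')
  let M' : pullback G₂.s (ρ' ≫ G₂.t) ⟶ pullback G₂.s G₂.t :=
    pullback.map _ _ _ _ (𝟙 _) ρ' (𝟙 _) (by simp) (by simp)
  have hM's : M' ≫ pullback.snd G₂.s G₂.t = pullback.snd G₂.s (ρ' ≫ G₂.t) ≫ ρ' := by simp [M']
  have hM'f : M' ≫ pullback.fst G₂.s G₂.t = pullback.fst G₂.s (ρ' ≫ G₂.t) := by simp [M']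
  have : UniversallyOpen (ρ' ≫ G₂.t) := isOpenMap_snd_of_field G₂ eU _
  have ho' : IsOpenMap ⇑(pullback.fst G₂.s (ρ' ≫ G₂.t)) := Scheme.Hom.isOpenMap _
  obtain ⟨θ, hθ⟩ : ∃ θ, M' θ = ξ' := by
    have sq : IsPullback M' (pullback.snd G₂.s (ρ' ≫ G₂.t)) (pullback.snd G₂.s G₂.t) ρ' := by
      refine IsPullback.of_right ?_ hM's (IsPullback.of_hasPullback G₂.s G₂.t)
      rw [hM'f]
      exact IsPullback.of_hasPullback G₂.s (ρ' ≫ G₂.t)
    obtain ⟨θ, hθ, -⟩ := Scheme.Pullback.exists_preimage_pullback (f := pullback.snd G₂.s G₂.t) (g := ρ') ξ'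
      (IsLocalRing.closedPoint _) (Scheme.fromSpecResidueField_apply _ _).symm
    exact ⟨sq.isoPullback.inv θ, by rw [← Scheme.Hom.comp_apply, sq.isoPullback_inv_fst, hθ]⟩
  have hξ' : pullback.fst G₂.s G₂.t ξ' = z₁ := by
    rw [← Scheme.Hom.comp_apply, hMf, Scheme.Hom.comp_apply]
    exact Scheme.fromSpecResidueField_apply _ _
  obtain ⟨w₁, hw₁, hw₁W⟩ := h1 _ (ho' _ (hV.preimage (M' ≫ G₂.c).continuous))
    ⟨θ, (by simpa [Scheme.Hom.comp_apply, hθ] using hη'), by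
      rw [← hM'f, Scheme.Hom.comp_apply, hθ, hξ']⟩
  obtain ⟨θ', hθ', rfl⟩ := hw₁
  refine ⟨G₂.c (M' θ'), by simpa [Scheme.Hom.comp_apply] using hθ', c_mem_range a _ ?_ ?_⟩
  · rw [← Scheme.Hom.comp_apply, hM'f]; exact hw₁W
  · have : pullback.snd G₂.s G₂.t (M' θ') = pullback.snd G₂.s G₂.t ξ' := by
      rw [← Scheme.Hom.comp_apply, hM's, Scheme.Hom.comp_apply]
      exact Scheme.fromSpecResidueField_apply _ _
    rw [this, ← Scheme.Hom.comp_apply M, hMs]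
    exact hw₂W

theorem isClosed_range_of_isLocallyClosed (eU : G₂.U ≅ Spec (CommRingCat.of k)) (a : GroupoidScheme.Hom G₁ G₂)
    [IsIso a.fU] (hlc : IsLocallyClosed (Set.range ⇑a.fR)) : IsClosed (Set.range ⇑a.fR) := by
  obtain ⟨V, hV, hW⟩ : ∃ V, IsOpen V ∧ Set.range ⇑a.fR = V ∩ closure (Set.range ⇑a.fR) := by
    obtain ⟨V, C, hV, hC, e⟩ := hlc
    refine ⟨V, hV, Set.Subset.antisymm (fun x hx => ⟨(e ▸ hx).1, subset_closure hx⟩) fun x hx => ?_⟩
    rw [e] at hx ⊢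
    exact ⟨hx.1, closure_minimal Set.inter_subset_right hC hx.2⟩
  rw [← closure_subset_iff_isClosed]
  intro r hr
  let K := G₂.R.residueField r
  let ρ := G₂.R.fromSpecResidueField r
  have hρ : ∀ y, ρ y = r := fun y => Scheme.fromSpecResidueField_apply _ _
  let pt := IsLocalRing.closedPoint K
  -- the inverse of `r` is in the closure
  have hiW : ∀ z ∈ Set.range ⇑a.fR, G₂.i z ∈ Set.range ⇑a.fR := fun z hz => by
    have := mem_range_i a (G₂.R.fromSpecResidueField z) (by convert hz; exact Scheme.fromSpecResidueField_apply _ _)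
    rw [Scheme.Hom.comp_apply] at this
    convert this
    exact (Scheme.fromSpecResidueField_apply _ _).symm
  have hir : G₂.i r ∈ closure (Set.range ⇑a.fR) := map_mem_closure G₂.i.continuous hr hiW
  let T : pullback (ρ ≫ G₂.s) G₂.t ⟶ G₂.R :=
    pullback.lift (pullback.fst (ρ ≫ G₂.s) G₂.t ≫ ρ) (pullback.snd (ρ ≫ G₂.s) G₂.t)
      (by rw [Category.assoc, pullback.condition]) ≫ G₂.c
  let z₀ : Spec (CommRingCat.of K) ⟶ pullback (ρ ≫ G₂.s) G₂.t :=
    pullback.lift (𝟙 _) (ρ ≫ G₂.i) (by rw [Category.assoc, G₂.i_t, Category.id_comp])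
  have hz₀ : T (z₀ pt) ∈ V := by
    have e : z₀ ≫ T = ρ ≫ G₂.t ≫ G₂.e := by
      rw [← G₂.comp_i ρ]
      simp only [T, ← Category.assoc]
      congr 1
      apply pullback.hom_ext <;> simp [z₀] <;> exact Category.id_comp _
    have : T (z₀ pt) ∈ Set.range ⇑a.fR := by
      rw [← Scheme.Hom.comp_apply, e]
      simp only [Scheme.Hom.comp_apply]
      exact mem_range_e a _
    exact (hW ▸ this).1
  have hsnd : pullback.snd (ρ ≫ G₂.s) G₂.t (z₀ pt) = G₂.i r := by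
    rw [← Scheme.Hom.comp_apply, pullback.lift_snd, Scheme.Hom.comp_apply]
    exact congrArg _ (hρ _)
  have : UniversallyOpen (ρ ≫ G₂.s) := isOpenMap_snd_of_field G₂ eU _
  have ho : IsOpenMap ⇑(pullback.snd (ρ ≫ G₂.s) G₂.t) := Scheme.Hom.isOpenMap _
  obtain ⟨w, hw, hwW⟩ := mem_closure_iff.1 hir _ (ho _ (hV.preimage T.continuous)) ⟨_, hz₀, hsnd⟩
  obtain ⟨z, hz, rfl⟩ := hw
  let L := (pullback (ρ ≫ G₂.s) G₂.t).residueField z
  let ζ := (pullback (ρ ≫ G₂.s) G₂.t).fromSpecResidueField z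
  have hζ : ζ (IsLocalRing.closedPoint L) = z := Scheme.fromSpecResidueField_apply _ _
  let x := ζ ≫ pullback.fst (ρ ≫ G₂.s) G₂.t ≫ ρ
  let y := ζ ≫ pullback.snd (ρ ≫ G₂.s) G₂.t
  have hxy : x ≫ G₂.s = y ≫ G₂.t := by simp only [x, y, Category.assoc, pullback.condition]
  have eT : pullback.lift x y hxy ≫ G₂.c = ζ ≫ T := by
    simp only [T, ← Category.assoc]
    congr 1
    apply pullback.hom_ext <;> simp [x, y]
  have hTW : T z ∈ Set.range ⇑a.fR := by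
    rw [hW]
    refine ⟨hz, ?_⟩
    have := c_mem_closure eU a ((pullback.lift (pullback.fst (ρ ≫ G₂.s) G₂.t ≫ ρ) (pullback.snd (ρ ≫ G₂.s) G₂.t)
      (by rw [Category.assoc, pullback.condition]) : _ ⟶ pullback G₂.s G₂.t) z)
      (by rw [← Scheme.Hom.comp_apply, pullback.lift_fst, Scheme.Hom.comp_apply, hρ]; exact hr)
      (by rw [← Scheme.Hom.comp_apply, pullback.lift_snd]; exact subset_closure hwW)
    simpa [T, Scheme.Hom.comp_apply] using this
  have := mem_range_of_comp a x y hxy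
    (by simp only [y, Scheme.Hom.comp_apply]; convert hwW; exact hζ)
    (by rw [eT, Scheme.Hom.comp_apply]; convert hTW; exact hζ)
  simpa [x, Scheme.Hom.comp_apply, hρ] using this

end Groth.Agent.GrpdLib
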