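import Groth.Agent.GrpdLib.BaseChange

/-!
# Invariants and base change of the invariant ring
-/

set_option backward.isDefEq.respectTransparency false
set_option backward.isDefEq.respectTransparency.types false

universe u

open Polynomial Matrix
open scoped TensorProduct

noncomputable section

namespace Groth.Agent.GrpdLib

/-- Powers of a combination of orthogonal idempotents times powers. -/
theorem sum_mul_pow_div {T : Type*} [CommRing T] (d : ℕ) (E : ℕ → T) (z y : T)
    (horth : ∀ i j, E i * E j = if i = j then E j else 0) (hy : y = ∑ j ∈ Finset.range (d + 1), E j * z ^ j)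
    (hone : ∑ j ∈ Finset.range (d + 1), E j = 1) (h0 : E 0 = 0) :
    ∑ r ∈ Finset.range (d + 1), E r * y ^ (d.factorial / r) = z ^ d.factorial := by
  have key : ∀ r ∈ Finset.range (d + 1), ∀ m : ℕ, E r * y ^ m = E r * z ^ (r * m) := by
    intro r hr m
    induction m with
    | zero => simp
    | succ m ih =>
      have h1 : E r * y = E r * z ^ r := by
        rw [hy, Finset.mul_sum, Finset.sum_eq_single r]
        · rw [← mul_assoc, horth, if_pos rfl]
        · intro j _ hj
          rw [← mul_assoc, horth, if_neg (Ne.symm hj), zero_mul]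
        · exact fun h => absurd hr h
      rw [pow_succ, ← mul_assoc, ih, mul_assoc, mul_comm (z ^ (r * m)), ← mul_assoc, h1, mul_assoc, ← pow_add]
      congr 2
      ring
  calc ∑ r ∈ Finset.range (d + 1), E r * y ^ (d.factorial / r)
      = ∑ r ∈ Finset.range (d + 1), E r * z ^ d.factorial := by
        refine Finset.sum_congr rfl fun r hr => ?_
        rw [key r hr]
        rcases Nat.eq_zero_or_pos r with rfl | hr0
        · simp [h0]
        · rw [Nat.mul_div_cancel' (Nat.dvd_factorial hr0 (Nat.lt_succ_iff.1 (Finset.mem_range.1 hr)))]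
    _ = z ^ d.factorial := by rw [← Finset.sum_mul, hone, one_mul]

namespace Frame

variable {A B : Type u} [CommRing A] [CommRing B] {α : A →+* B} {n n' : ℕ}

/-- The norm of a variable: a sum of orthogonal idempotents times its powers. -/
def rankPoly (F : Frame α n) : A[X] := (1 + (X - 1 : A[X]) • (F.mat 1).map C).det

theorem rankPoly_eval₂ (F : Frame α n) {S : Type u} [CommRing S] (h : A →+* S) (z : S) :
    F.rankPoly.eval₂ h z = (1 + (z - 1) • (F.mat 1).map h).det := by
  rw [rankPoly, ← coe_eval₂RingHom, RingHom.map_det, RingHom.mapMatrix_apply]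
  congr 1
  ext i j
  simp [Matrix.one_apply, apply_ite (eval₂ h z)]

theorem rankPoly_eval (F : Frame α n) (a : A) : F.rankPoly.eval a = F.norm (α a) := by
  rw [Polynomial.eval, rankPoly_eval₂, norm]
  congr 2
  rw [show α a - 1 = α (a - 1) * 1 by rw [mul_one, map_sub, map_one], F.mat_smul]
  ext i j
  simp

theorem rankPoly_eval₂_mul (F : Frame α n) {S : Type u} [CommRing S] (h : A →+* S) (z w : S) :
    F.rankPoly.eval₂ h z * F.rankPoly.eval₂ h w = F.rankPoly.eval₂ h (z * w) := by
  rw [rankPoly_eval₂, rankPoly_eval₂, rankPoly_eval₂, ← det_mul]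
  congr 1
  have hP : (F.mat 1).map h * (F.mat 1).map h = (F.mat 1).map h := by
    rw [← Matrix.map_mul, ← F.mat_mul, one_mul]
  rw [add_mul, mul_add, mul_add, Matrix.one_mul, Matrix.one_mul, Matrix.mul_one, Matrix.smul_mul, Matrix.mul_smul,
    hP, smul_smul, show z * w - 1 = (z - 1) + (w - 1) + (z - 1) * (w - 1) by ring, add_smul, add_smul]
  abel

theorem rankPoly_coeff_mul (F : Frame α n) (i j : ℕ) :
    F.rankPoly.coeff i * F.rankPoly.coeff j = if i = j then F.rankPoly.coeff j else 0 := by
  have h := F.rankPoly_eval₂_mul (C.comp C : A →+* A[X][X]) (C X) X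
  have e1 : F.rankPoly.eval₂ (C.comp C : A →+* A[X][X]) (C X) = C F.rankPoly := by
    rw [← hom_eval₂, eval₂_C_X]
  have e2 : F.rankPoly.eval₂ (C.comp C : A →+* A[X][X]) X = F.rankPoly.map C := by
    rw [← eval₂_map, eval₂_C_X]
  have e3 : F.rankPoly.eval₂ (C.comp C : A →+* A[X][X]) (C X * X) =
      ∑ r ∈ Finset.range (F.rankPoly.natDegree + 1), C (C (F.rankPoly.coeff r) * X ^ r) * X ^ r := by
    rw [eval₂_eq_sum_range]
    refine Finset.sum_congr rfl fun r _ => ?_
    rw [RingHom.comp_apply, mul_pow, map_mul, map_pow, mul_assoc]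
  rw [e1, e2, e3] at h
  have h' := congrArg (fun P : A[X][X] => (P.coeff j).coeff i) h
  simp only [Polynomial.coeff_C_mul, coeff_map, Polynomial.coeff_mul_C, finsetSum_coeff, coeff_X_pow] at h'
  rw [h']
  by_cases hj : j ∈ Finset.range (F.rankPoly.natDegree + 1)
  · rw [Finset.sum_eq_single j (fun b _ hb => by simp [Ne.symm hb]) (fun hn => absurd hj hn)]
    simp [coeff_X_pow]
  · rw [coeff_eq_zero_of_natDegree_lt (p := F.rankPoly) (n := j) (by simp at hj; omega)]
    rw [ite_self]
    refine Finset.sum_eq_zero fun b hb => ?_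
    have : j ≠ b := fun e => hj (e ▸ hb)
    simp [this]

theorem rankPoly_eq (F : Frame α n) (F' : Frame α n') : F.rankPoly = F'.rankPoly := by
  rw [rankPoly, rankPoly, F.mat_eq_mul F', Matrix.map_mul, ← Matrix.smul_mul, det_one_add_mul_comm, Matrix.mul_smul,
    ← Matrix.map_mul, F.mul_eq_mat F']

theorem IsMap.rankPoly {A' B' : Type u} [CommRing A'] [CommRing B'] {α' : A' →+* B'} {F : Frame α n}
    {F' : Frame α' n} {h : A →+* A'} {g : B →+* B'} (H : IsMap F F' h g) :
    F'.rankPoly = F.rankPoly.map h := by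
  rw [← coe_mapRingHom, Frame.rankPoly, Frame.rankPoly, RingHom.map_det, RingHom.mapMatrix_apply, ← map_one g, H.mat]
  congr 1
  ext i j : 1
  simp [Matrix.one_apply, apply_ite (Polynomial.map h)]

theorem norm_zero (F : Frame α n) (e : B →+* A) (he : e.comp α = RingHom.id A) : F.norm 0 = 0 :=
  F.norm_eq_zero e (RingHom.id A) he (map_zero e)

end Frame

namespace AffData

variable {D : AffData.{u}} {n : ℕ} (F : Frame D.s n)

theorem rankPoly_coeff_invariant (r : ℕ) : D.s (F.rankPoly.coeff r) = D.t (F.rankPoly.coeff r) := by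
  obtain ⟨F₁, H₁⟩ := F.exists_isMap D.t D.p₁ D.sq₁
  obtain ⟨F₂, H₂⟩ := F.exists_isMap D.s D.m D.sq₂
  have h : F.rankPoly.map D.t = F.rankPoly.map D.s := by
    rw [← H₁.rankPoly, ← H₂.rankPoly]
    exact F₁.rankPoly_eq F₂
  have := congrArg (fun P => Polynomial.coeff P r) h
  simpa only [coeff_map] using this.symm

variable (D) (K : Subring D.A) (hK : ∀ a, a ∈ K ↔ D.s a = D.t a) (R : Type u) [CommRing R] [Algebra K R]

attribute [local instance] algB algC

variable {D}

/-- The coordinates as linear maps over the invariants. -/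
def vK (i : Fin n) : D.B →ₗ[K] D.A where
  toFun := F.v i
  map_add' := (F.v i).map_add
  map_smul' k x := F.v_smul i (k : D.A) x

/-- The frame on a base change. -/
def tframe : Frame (tmap R (sK D K)) n where
  u i := F.u i ⊗ₜ[K] (1 : R)
  v i := ((vK F K i).rTensor R).toAddMonoidHom
  v_smul i a x := by
    induction a using TensorProduct.induction_on with
    | zero => simp
    | add a b ha hb => simp only [map_add, add_mul, ha, hb]
    | tmul a r =>
      induction x using TensorProduct.induction_on with
      | zero => simp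
      | add x y hx hy => simp only [map_add, mul_add, hx, hy]
      | tmul x r' => simp [vK, sK, F.v_smul]
  sum_v x := by
    induction x using TensorProduct.induction_on with
    | zero => simp
    | add x y hx hy => simp only [map_add, add_mul, Finset.sum_add_distrib, hx, hy]
    | tmul x r =>
      conv_rhs => rw [← F.sum_v x, TensorProduct.sum_tmul]
      exact Finset.sum_congr rfl fun i _ => by simp [vK, sK]

theorem isMap_tframe : Frame.IsMap F (tframe F K R) (Algebra.TensorProduct.includeLeftRingHom)
    (Algebra.TensorProduct.includeLeftRingHom) :=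
  ⟨fun _ => rfl, fun _ _ => rfl⟩

variable {R} {R' : Type u} [CommRing R'] [Algebra K R'] (ψ : R →ₐ[K] R')

/-- The map of base changes. -/
abbrev cmap (M : Type u) [CommRing M] [Algebra K M] : M ⊗[K] R →+* M ⊗[K] R' :=
  (Algebra.TensorProduct.map (AlgHom.id K M) ψ).toRingHom

theorem isMap_cmap : Frame.IsMap (tframe F K R) (tframe F K R') (cmap K ψ D.A) (cmap K ψ D.B) := by
  refine ⟨fun i => by simp [tframe], fun i x => ?_⟩
  induction x using TensorProduct.induction_on with
  | zero => simp
  | add x y hx hy => simp only [map_add, hx, hy]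
  | tmul x r => simp [tframe]

theorem cmap_tmap (φ : D.A →ₐ[K] D.B) (z : D.A ⊗[K] R) :
    cmap K ψ D.B (tmap R φ z) = tmap R' φ (cmap K ψ D.A z) := by
  induction z using TensorProduct.induction_on with
  | zero => simp
  | add x y hx hy => simp only [map_add, hx, hy]
  | tmul x r => simp

set_option maxHeartbeats 1000000 in
set_option synthInstance.maxHeartbeats 80000 in
include F in
/-- An invariant element of a base change is killed by a monic polynomial with coefficients in the new base,
all of whose roots it is. -/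
theorem exists_pow_eq_map (C' : Type u) [CommRing C'] [Algebra K C'] (f : D.A ⊗[K] C')
    (hf : tmap C' (sK D K) f = tmap C' (tK D K hK) f) :
    ∃ (M : ℕ) (P : C'[X]), 0 < M ∧
      P.map (Algebra.TensorProduct.includeRight : C' →ₐ[K] D.A ⊗[K] C').toRingHom = (X - Polynomial.C f) ^ M := by
  classical
  obtain ⟨S, hS⟩ := TensorProduct.exists_finset f
  let R := MvPolynomial (Option S) K
  let a : D.A ⊗[K] R := (1 : D.A) ⊗ₜ[K] (MvPolynomial.X none) - ∑ i : S, i.1.1 ⊗ₜ[K] (MvPolynomial.X (some i))
  let e : ℕ → D.A := fun r => F.rankPoly.coeff r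
  let d := F.rankPoly.natDegree
  let M := d.factorial
  let Q : D.A ⊗[K] R :=
    ∑ r ∈ Finset.range (d + 1), (e r ⊗ₜ[K] (1 : R)) * (tframe F K R).norm (tmap R (tK D K hK) a) ^ (M / r)
  have hQ : (D.baseChange K hK R).s Q = (D.baseChange K hK R).t Q := by
    show tmap R (sK D K) Q = tmap R (tK D K hK) Q
    rw [map_sum, map_sum]
    refine Finset.sum_congr rfl fun r _ => ?_
    rw [map_mul, map_mul, map_pow, map_pow]
    congr 1
    · simp [sK, tK, e, rankPoly_coeff_invariant F r]
    · congr 1
      exact (t_norm_eq (D := D.baseChange K hK R) (tframe F K R) a).symm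
  obtain ⟨q, hq⟩ := mem_range_includeRight D K hK R Q hQ
  let ψ : R →ₐ[K] C'[X] := MvPolynomial.aeval fun o => o.elim X fun i => Polynomial.C i.1.2
  let ι : C' →ₐ[K] C'[X] := IsScalarTower.toAlgHom K C' C'[X]
  let z : D.A ⊗[K] C'[X] := (1 : D.A) ⊗ₜ[K] X - cmap K ι D.A f
  have hz : cmap K ψ D.A a = z := by
    simp only [a, z, map_sub, map_sum]
    congr 1
    · show (Algebra.TensorProduct.map (AlgHom.id K D.A) ψ) ((1 : D.A) ⊗ₜ[K] MvPolynomial.X none) = _
      rw [Algebra.TensorProduct.map_tmul, map_one]
      exact congrArg _ (MvPolynomial.aeval_X _ none)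
    · rw [hS, map_sum, ← Finset.sum_coe_sort S]
      refine Finset.sum_congr rfl fun i _ => ?_
      show (Algebra.TensorProduct.map (AlgHom.id K D.A) ψ) (i.1.1 ⊗ₜ[K] MvPolynomial.X (some i)) =
        (Algebra.TensorProduct.map (AlgHom.id K D.A) ι) (i.1.1 ⊗ₜ[K] i.1.2)
      rw [Algebra.TensorProduct.map_tmul, Algebra.TensorProduct.map_tmul]
      exact congrArg _ (MvPolynomial.aeval_X _ (some i))
  have hzinv : tmap C'[X] (tK D K hK) z = tmap C'[X] (sK D K) z := by
    simp only [z, map_sub, ← cmap_tmap, hf]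
    simp
  have hsum : ∑ r ∈ Finset.range (d + 1), e r = 1 := by
    have h := F.rankPoly_eval 1
    rw [map_one, F.norm_one, Polynomial.eval_eq_sum_range] at h
    simpa using h
  have h0 : e 0 = 0 := by
    have h := F.rankPoly_eval 0
    rw [map_zero, F.norm_zero D.e D.e_s, ← coeff_zero_eq_eval_zero] at h
    exact h
  let y := (tframe F K C'[X]).norm (tmap C'[X] (sK D K) z)
  have hy : y = ∑ j ∈ Finset.range (d + 1), (e j ⊗ₜ[K] (1 : C'[X])) * z ^ j := by
    show (tframe F K C'[X]).norm _ = _
    rw [← Frame.rankPoly_eval, (isMap_tframe F K C'[X]).rankPoly, eval_map, eval₂_eq_sum_range]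
    rfl
  have hψQ : cmap K ψ D.A Q = z ^ M := by
    have hnorm : cmap K ψ D.A ((tframe F K R).norm (tmap R (tK D K hK) a)) = y := by
      rw [← (isMap_cmap F K ψ).norm, cmap_tmap, hz, hzinv]
    let inl := (Algebra.TensorProduct.includeLeftRingHom : D.A →+* D.A ⊗[K] C'[X])
    rw [map_sum]
    refine (Finset.sum_congr rfl fun r _ => ?_).trans (sum_mul_pow_div d (fun r => inl (e r)) z y (fun i j => ?_) hy ?_ ?_)
    · refine (map_mul _ _ _).trans ?_
      rw [map_pow, hnorm]
      congr 1
      show (Algebra.TensorProduct.map (AlgHom.id K D.A) ψ) (e r ⊗ₜ[K] (1 : R)) = _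
      rw [Algebra.TensorProduct.map_tmul, map_one]
      rfl
    · rw [← map_mul, F.rankPoly_coeff_mul]
      split_ifs with hij
      · rfl
      · exact map_zero _
    · rw [← map_sum, hsum, map_one]
    · rw [h0, map_zero]
  let Φ : D.A ⊗[K] C'[X] →ₐ[K] (D.A ⊗[K] C')[X] :=
    Algebra.TensorProduct.lift
      ((IsScalarTower.toAlgHom K (D.A ⊗[K] C') (D.A ⊗[K] C')[X]).comp
        (Algebra.TensorProduct.includeLeft : D.A →ₐ[K] D.A ⊗[K] C'))
      (Polynomial.mapAlgHom (Algebra.TensorProduct.includeRight : C' →ₐ[K] D.A ⊗[K] C'))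
      fun _ _ => .all _ _
  refine ⟨M, ψ q, d.factorial_pos, ?_⟩
  have h1 := congrArg Φ hψQ
  rw [← hq, map_pow] at h1
  simp only [cmap, AlgHom.toRingHom_eq_coe, RingHom.coe_coe, Algebra.TensorProduct.map_tmul, AlgHom.id_apply] at h1
  rw [show Φ ((1 : D.A) ⊗ₜ[K] ψ q) =
    (ψ q).map (Algebra.TensorProduct.includeRight : C' →ₐ[K] D.A ⊗[K] C').toRingHom by
      rw [Algebra.TensorProduct.lift_tmul, map_one, one_mul]; rfl] at h1
  rw [h1]
  congr 1
  have h2 : ∀ w : D.A ⊗[K] C', Φ (cmap K ι D.A w) = Polynomial.C w := by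
    intro w
    induction w using TensorProduct.induction_on with
    | zero => simp
    | add x y hx hy => simp only [map_add, hx, hy]
    | tmul x c => simp [Φ, ι, ← map_mul]
  simp only [z, map_sub, h2]
  simp [Φ, ← Algebra.TensorProduct.one_def]

set_option maxHeartbeats 1000000 in
set_option synthInstance.maxHeartbeats 100000 in
include F hK in
/-- An element of the new base killed in the base change is nilpotent. -/
theorem isNilpotent_of_includeRight_eq_zero (C' : Type u) [CommRing C'] [Algebra K C'] (c : C')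
    (hc : (1 : D.A) ⊗ₜ[K] c = (0 : D.A ⊗[K] C')) : IsNilpotent c := by
  have : Algebra.IsIntegral K D.A := ⟨fun a => isIntegralElem F K (fun x hx => (hK x).2 hx) a⟩
  rw [← mem_nilradical, nilradical_eq_sInf, Ideal.mem_sInf]
  intro q hq
  have : q.IsPrime := hq
  let p : Ideal K := q.comap (algebraMap K C')
  obtain ⟨P, hP⟩ := Algebra.IsIntegral.comap_surjective K D.A ⟨p, inferInstance⟩
  have hP' : p = P.asIdeal.comap (algebraMap K D.A) := (congrArg PrimeSpectrum.asIdeal hP).symm
  let k := p.ResidueField
  letI : Algebra k P.asIdeal.ResidueField :=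
    (Ideal.ResidueField.mapₐ p P.asIdeal (Algebra.ofId K D.A) hP').toRingHom.toAlgebra
  letI : Algebra k q.ResidueField :=
    (Ideal.ResidueField.mapₐ p q (Algebra.ofId K C') rfl).toRingHom.toAlgebra
  haveI : IsScalarTower K k P.asIdeal.ResidueField := .of_algebraMap_eq fun x =>
    ((Ideal.ResidueField.mapₐ p P.asIdeal (Algebra.ofId K D.A) hP').commutes x).symm
  haveI : IsScalarTower K k q.ResidueField := .of_algebraMap_eq fun x =>
    ((Ideal.ResidueField.mapₐ p q (Algebra.ofId K C') rfl).commutes x).symm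
  let T := P.asIdeal.ResidueField ⊗[k] q.ResidueField
  let Φ : D.A ⊗[K] C' →ₐ[K] T :=
    Algebra.TensorProduct.lift
      (((Algebra.TensorProduct.includeLeft : P.asIdeal.ResidueField →ₐ[k] T).restrictScalars K).comp
        (IsScalarTower.toAlgHom K D.A P.asIdeal.ResidueField))
      (((Algebra.TensorProduct.includeRight : q.ResidueField →ₐ[k] T).restrictScalars K).comp
        (IsScalarTower.toAlgHom K C' q.ResidueField))
      fun _ _ => .all _ _
  have h := congrArg Φ hc
  rw [map_zero] at h
  have h' : (Algebra.TensorProduct.includeRight : q.ResidueField →ₐ[k] T) (algebraMap C' q.ResidueField c) = 0 := by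
    rw [← h]
    show _ = Φ ((1 : D.A) ⊗ₜ[K] c)
    rw [Algebra.TensorProduct.lift_tmul, map_one, one_mul]
    rfl
  haveI : Module.Free k q.ResidueField := Module.Free.of_divisionRing k q.ResidueField
  haveI : Module.Flat k q.ResidueField := Module.Flat.of_free
  have hinj : Function.Injective (Algebra.TensorProduct.includeRight : q.ResidueField →ₐ[k] T) :=
    Algebra.TensorProduct.includeRight_injective (algebraMap k P.asIdeal.ResidueField).injective
  exact Ideal.algebraMap_residueField_eq_zero.1 (hinj (h'.trans (map_zero _).symm))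

end AffData

end Groth.Agent.GrpdLib
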